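import Cfsg.Agent.TwoF.DC.TFG.Cmb
import Cfsg.Agent.TwoF.DC.TFG.RD

/-!
# TwoF, defining characteristic, type G2: tables (helper25, generated)

Positive roots: `0 = 3a+2b`, `1 = 3a+b`, `2 = 2a+b`, `3 = a+b`, `4 = b`, `5 = a`; node `0 = a` is short.
-/

set_option autoImplicit false
set_option synthInstance.maxSize 4000
set_option linter.unusedVariables false

namespace Cfsg.Agent.TwoF.DC.TF

open Cfsg.Lie TE

/-- all structure constants -/
def okA (_ : ℕ) : Bool := true
/-- odd structure constants -/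
def ok2 (r : ℕ) : Bool := !r.beq 1
/-- structure constants prime to `3` -/
def ok3 (r : ℕ) : Bool := !r.beq 2

/-- the positive roots -/
def cfG : List (List ℕ) :=
  [[3, 2], [3, 1], [2, 1], [1, 1], [0, 1], [1, 0]]

/-- the positive coroots -/
def coG : List (List ℕ) :=
  [[1, 2], [1, 1], [2, 3], [1, 3], [0, 1], [1, 0]]

/-- the Cartan matrix -/
def cmG : List (List ℤ) :=
  [[p2, m3], [m1, p2]]

/-- the simple reflections on root codes -/
def prmG : List (List ℕ) :=
  [[0, 4, 3, 2, 1, 11, 6, 10, 9, 8, 7, 5], [1, 0, 2, 5, 10, 3, 7, 6, 8, 11, 4, 9]]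

/-- all roots -/
def rlG : List (List ℤ) :=
  [[p3, p2], [p3, p1], [p2, p1], [p1, p1], [p0, p1], [p1, p0], [m3, m2], [m3, m1], [m2, m1], [m1, m1], [p0, m1],
    [m1, p0]]

/-- the simple roots as weights -/
def colG : List (List ℤ) :=
  [[p2, m1], [m3, p2]]

/-- the numbers of the roots in the Chevalley datum -/
def ixG (b : Fin 6) : ℕ :=
  List.getD [11, 10, 9, 8, 6, 7] b 0

/-- the root combinatorics -/
def rcG : RC (Fin 2) (Fin 6) where
  zi := ![5, 4]
  cf b j := (cfG.getD b []).getD j 0
  co b j := (coG.getD b []).getD j 0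
  C i j := gz (rg cmG i) j
  s i b := Fin.ofNat 6 ((prmG.getD i []).getD b 0)
  cf_zi := by decide +kernel
  co_zi := by decide +kernel
  C_self := by decide +kernel
  C_inj c h := by
    have h0 := h 0
    have h1 := h 1
    simp only [Fin.sum_univ_succ, Fin.sum_univ_zero] at h0 h1
    change (2 : ℤ) * c 0 + ((-3 : ℤ) * c 1 + 0) = 0 at h0
    change (-1 : ℤ) * c 0 + ((2 : ℤ) * c 1 + 0) = 0 at h1
    funext i
    fin_cases i <;> simp <;> omega
  cf_inj := by decide +kernel
  red b i n h := by
    have h1 : ∀ (b : Fin 6) (i : Fin 2), (∀ j : Fin 2, j ≠ i → (cfG.getD b []).getD j 0 = 0) →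
        b = (![5, 4] : Fin 2 → Fin 6) i := by decide +kernel
    exact h1 b i fun j hj => (congrFun h j).trans (by simp [hj])
  cf_s := by decide +kernel
  co_s := by decide +kernel
  desc := by decide +kernel

theorem tbG : TB rcG rlG colG prmG where
  len := by decide +kernel
  hrl := by decide +kernel
  hcol := by decide +kernel
  hprm := by decide +kernel

theorem tabG : RD.Tab chevG2 2 rcG ixG where
  lt := by decide +kernel
  cf := by decide +kernel
  C := by decide +kernel
  surj := by decide +kernel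

/-- heights -/
def htG : RD.Hts chevG2 2 where
  c := ![4, 7]
  hw := ![1, 2]
  pos := by decide +kernel
  eq := by decide +kernel

/-- the masks for the enumeration -/
def eGA : List RE :=
  [([], [], 0, 0), ([], [], 1, 16), ([], [], 3, 40), ([], [], 5, 36), ([], [], 9, 34), ([], [], 14, 28)]

theorem eGA_ok : chkE 6 rlG okA eGA = true := by decide +kernel

/-- the masks for the enumeration -/
def eG2 : List RE :=
  [([], [], 0, 0), ([], [], 1, 16), ([], [], 3, 40), ([], [], 1, 4), ([], [], 9, 34), ([], [], 10, 20)]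

theorem eG2_ok : chkE 6 rlG ok2 eG2 = true := by decide +kernel

/-- the masks for the enumeration -/
def eG3 : List RE :=
  [([], [], 0, 0), ([], [], 1, 16), ([], [], 0, 0), ([], [], 4, 32), ([], [], 9, 34), ([], [], 12, 24)]

theorem eG3_ok : chkE 6 rlG ok3 eG3 = true := by decide +kernel

theorem gA11_top : chkTop 6 rlG okA 48 63 = true := by decide +kernel

/-- a weight table -/
def gA11 : List WE :=
  [(1, 1, [m1, m1], 63), (1, 1, [p1, m2], 2079), (0, 1, [m4, p1], 1071), (0, 1, [m5, p2], 1575),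
    (1, 1, [p4, m3], 2205), (1, 1, [p5, m3], 2457), (0, 1, [m5, p3], 1638), (0, 1, [m4, p3], 1890),
    (1, 1, [p5, m2], 2520), (1, 1, [p4, m1], 3024), (0, 0, [m1, p2], 2016), (0, 1000, [p1, p1], 4032)]

theorem gA11_ok : chkT 2 colG prmG [p1, p1] (63 <<< 6) gA11 = true := by decide +kernel

theorem gA11_en : enum (fun I n => n.beq 0 || (2 * n).blt (cnt I gA11)) eGA 0 0 0 = true := by decide +kernel

theorem gA01_top : chkTop 6 rlG okA 16 31 = true := by decide +kernel

/-- a weight table -/
def gA01 : List WE :=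
  [(1, 0, [p0, m1], 31), (0, 0, [m3, p1], 1063), (1, 0, [p3, m2], 2201), (0, 0, [m3, p2], 1634),
    (1, 0, [p3, m1], 2512), (0, 1000, [p0, p1], 1984)]

theorem gA01_ok : chkT 2 colG prmG [p0, p1] (31 <<< 6) gA01 = true := by decide +kernel

theorem gA01b_sec : chkSec 2 6 rlG okA 16 31 3 2 160 = true := by decide +kernel

theorem gA01b_clo : chkC 2 prmG [p1, p0] 232 [(1, 232)] 160 = true := by decide +kernel

/-- a weight table -/
def gA01b : List WE :=
  [(0, 0, [m1, p0], 2563), (1, 0, [p1, m1], 305), (0, 0, [m2, p1], 1290), (1, 0, [p2, m1], 660),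
    (0, 0, [m1, p1], 3140), (0, 1000, [p1, p0], 232)]

theorem gA01b_ok : chkT 2 colG prmG [p1, p0] 232 gA01b = true := by decide +kernel

theorem gA01_en : enum (fun I n => n.beq 0 || (2 * n).blt (cnt I gA01 + cnt I gA01b)) eGA 0 0 0 = true := by decide +kernel

theorem gA10_top : chkTop 6 rlG okA 32 47 = true := by decide +kernel

/-- a weight table -/
def gA10 : List WE :=
  [(0, 0, [m1, p0], 47), (1, 0, [p1, m1], 2077), (0, 0, [m2, p1], 1574), (1, 0, [p2, m1], 2456),
    (0, 0, [m1, p1], 1888), (0, 1000, [p1, p0], 3008)]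

theorem gA10_ok : chkT 2 colG prmG [p1, p0] (47 <<< 6) gA10 = true := by decide +kernel

theorem gA20b_sec : chkSec 2 6 rlG okA 32 47 5 16 1056 = true := by decide +kernel

theorem gA20b_clo : chkC 2 prmG [p0, p1] 3232 [(0, 3232)] 1056 = true := by decide +kernel

/-- a weight table -/
def gA20b : List WE :=
  [(1, 0, [p0, m1], 2098), (0, 0, [m3, p1], 1545), (1, 0, [p3, m2], 389), (0, 0, [m3, p2], 326),
    (1, 0, [p3, m1], 600), (0, 1000, [p0, p1], 3232)]

theorem gA20b_ok : chkT 2 colG prmG [p0, p1] 3232 gA20b = true := by decide +kernel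

theorem gA20_en : enum (fun I n => n.beq 0 || (2 * n).blt (cnt I gA10 + cnt I gA20b)) eGA 0 0 0 = true := by decide +kernel

theorem gA10s_top : chkTop 6 rlG okA 36 47 = true := by decide +kernel

/-- a weight table -/
def gA10s : List WE :=
  [(0, 0, [m1, p0], 47), (1, 0, [p1, m1], 2077), (0, 0, [m2, p1], 1574), (1, 0, [p2, m1], 2456),
    (0, 0, [m1, p1], 1888), (0, 1000, [p1, p0], 3008)]

theorem gA10s_ok : chkT 2 colG prmG [p1, p0] (47 <<< 6) gA10s = true := by decide +kernel

theorem gA10b_sec : chkSec 2 6 rlG okA 36 47 2 0 44 = true := by decide +kernel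

theorem gA10b_clo : chkC 2 prmG [p0, p0] 2860 [(0, 2092), (1, 2604), (0, 2860)] 44 = true := by decide +kernel

/-- a weight table -/
def gA10b : List WE :=
  [(0, 1000, [p0, p0], 2860)]

theorem gA10b_ok : chkT 2 colG prmG [p0, p0] 2860 gA10b = true := by decide +kernel

theorem gA10_en : enum (fun I n => n.beq 0 || (1 * n).blt (cnt I gA10s + cnt I gA10b)) eGA 0 0 0 = true := by decide +kernel

theorem g311_top : chkTop 6 rlG ok3 48 63 = true := by decide +kernel

/-- a weight table -/
def g311 : List WE :=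
  [(1, 1, [m1, m1], 63), (1, 1, [p1, m2], 2079), (0, 1, [m4, p1], 1071), (0, 1, [m5, p2], 1575),
    (1, 1, [p4, m3], 2205), (1, 1, [p5, m3], 2457), (0, 1, [m5, p3], 1638), (0, 1, [m4, p3], 1890),
    (1, 1, [p5, m2], 2520), (1, 1, [p4, m1], 3024), (0, 0, [m1, p2], 2016), (0, 1000, [p1, p1], 4032)]

theorem g311_ok : chkT 2 colG prmG [p1, p1] (63 <<< 6) g311 = true := by decide +kernel

theorem g311_en : enum (fun I n => n.beq 0 || (2 * n).blt (cnt I g311)) eG3 0 0 0 = true := by decide +kernel

theorem g301_top : chkTop 6 rlG ok3 19 19 = true := by decide +kernel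

/-- a weight table -/
def g301 : List WE :=
  [(1, 0, [p0, m1], 19), (0, 0, [m3, p1], 1027), (1, 0, [p3, m2], 145), (0, 0, [m3, p2], 1090),
    (1, 0, [p3, m1], 208), (0, 1000, [p0, p1], 1216)]

theorem g301_ok : chkT 2 colG prmG [p0, p1] (19 <<< 6) g301 = true := by decide +kernel

theorem g310_top : chkTop 6 rlG ok3 36 47 = true := by decide +kernel

/-- a weight table -/
def g310 : List WE :=
  [(0, 0, [m1, p0], 47), (1, 0, [p1, m1], 2077), (0, 0, [m2, p1], 1574), (1, 0, [p2, m1], 2456),
    (0, 0, [m1, p1], 1888), (0, 1000, [p1, p0], 3008)]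

theorem g310_ok : chkT 2 colG prmG [p1, p0] (47 <<< 6) g310 = true := by decide +kernel

theorem g310b_sec : chkSec 2 6 rlG ok3 36 47 2 0 44 = true := by decide +kernel

theorem g310b_clo : chkC 2 prmG [p0, p0] 2860 [(0, 2092), (1, 2604), (0, 2860)] 44 = true := by decide +kernel

/-- a weight table -/
def g310b : List WE :=
  [(0, 1000, [p0, p0], 2860)]

theorem g310b_ok : chkT 2 colG prmG [p0, p0] 2860 g310b = true := by decide +kernel

theorem g310_en : enum (fun I n => n.beq 0 || (1 * n).blt (cnt I g310 + cnt I g310b)) eG3 0 0 0 = true := by decide +kernel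

theorem g3pair_en : enum (fun I n => n.beq 0 || (2 * n).blt (cnt I g310 + cnt I g310b + cnt I g301)) eG3 0 0 0 = true := by decide +kernel

theorem g3short_en : enum (fun I n => n.beq 0 || !sub I 44 || (2 * n).blt (cnt I g310 + cnt I g310b)) eG3 0 0 0 = true := by decide +kernel

theorem g320b_sec : chkSec 2 6 rlG ok3 36 47 5 19 1248 = true := by decide +kernel

theorem g320b_clo : chkC 2 prmG [p0, p1] 3296 [(0, 3296)] 1248 = true := by decide +kernel

/-- a weight table -/
def g320b : List WE :=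
  [(1, 0, [p0, m1], 2099), (0, 0, [m3, p1], 1547), (1, 0, [p3, m2], 405), (0, 0, [m3, p2], 1350),
    (1, 0, [p3, m1], 728), (0, 1000, [p0, p1], 3296)]

theorem g320b_ok : chkT 2 colG prmG [p0, p1] 3296 g320b = true := by decide +kernel

theorem g320c_sec : chkSec 2 6 rlG ok3 36 47 2 47 236 = true := by decide +kernel

theorem g320c_clo : chkC 2 prmG [p1, p0] 236 [] 236 = true := by decide +kernel

/-- a weight table -/
def g320c : List WE :=
  [(0, 0, [m1, p0], 2819), (1, 0, [p1, m1], 817), (0, 0, [m2, p1], 3338), (1, 0, [p2, m1], 692),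
    (0, 0, [m1, p1], 3148), (0, 1000, [p1, p0], 236)]

theorem g320c_ok : chkT 2 colG prmG [p1, p0] 236 g320c = true := by decide +kernel

theorem g320_en : enum (fun I n => n.beq 0 || (2 * n).blt (cnt I g310 + cnt I g320b + cnt I g320c)) eG3 0 0 0 = true := by decide +kernel

theorem g211_top : chkTop 6 rlG ok2 53 63 = true := by decide +kernel

/-- a weight table -/
def g211 : List WE :=
  [(1, 1, [m1, m1], 63), (1, 1, [p1, m2], 2079), (0, 1, [m4, p1], 1071), (0, 1, [m5, p2], 1575),
    (1, 1, [p4, m3], 2205), (1, 1, [p5, m3], 2457), (0, 1, [m5, p3], 1638), (0, 1, [m4, p3], 1890),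
    (1, 1, [p5, m2], 2520), (1, 1, [p4, m1], 3024), (0, 0, [m1, p2], 2016), (0, 1000, [p1, p1], 4032)]

theorem g211_ok : chkT 2 colG prmG [p1, p1] (63 <<< 6) g211 = true := by decide +kernel

theorem g211_en : enum (fun I n => n.beq 0 || (2 * n).blt (cnt I g211)) eG2 0 0 0 = true := by decide +kernel

theorem g210_top : chkTop 6 rlG ok2 43 43 = true := by decide +kernel

/-- a weight table -/
def g210 : List WE :=
  [(0, 0, [m1, p0], 43), (1, 0, [p1, m1], 2069), (0, 0, [m2, p1], 1542), (1, 0, [p2, m1], 408),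
    (0, 0, [m1, p1], 1376), (0, 1000, [p1, p0], 2752)]

theorem g210_ok : chkT 2 colG prmG [p1, p0] (43 <<< 6) g210 = true := by decide +kernel

theorem g210_en : enum (fun I n => n.beq 0 || (1 * n).ble (cnt I g210)) eG2 0 0 0 = true := by decide +kernel

theorem g201_top : chkTop 6 rlG ok2 30 31 = true := by decide +kernel

/-- a weight table -/
def g201 : List WE :=
  [(1, 0, [p0, m1], 31), (0, 0, [m3, p1], 1063), (1, 0, [p3, m2], 2201), (0, 0, [m3, p2], 1634),
    (1, 0, [p3, m1], 2512), (0, 1000, [p0, p1], 1984)]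

theorem g201_ok : chkT 2 colG prmG [p0, p1] (31 <<< 6) g201 = true := by decide +kernel

theorem g201b_sec : chkSec 2 6 rlG ok2 30 31 3 43 232 = true := by decide +kernel

theorem g201b_clo : chkC 2 prmG [p1, p0] 232 [] 232 = true := by decide +kernel

/-- a weight table -/
def g201b : List WE :=
  [(0, 0, [m1, p0], 2563), (1, 0, [p1, m1], 305), (0, 0, [m2, p1], 1290), (1, 0, [p2, m1], 660),
    (0, 0, [m1, p1], 3140), (0, 1000, [p1, p0], 232)]

theorem g201b_ok : chkT 2 colG prmG [p1, p0] 232 g201b = true := by decide +kernel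

theorem g201c_sec : chkSec 2 6 rlG ok2 30 31 0 0 30 = true := by decide +kernel

theorem g201c_clo : chkC 2 prmG [p0, p0] 4095 [(1, 1087), (0, 3263), (1, 3839), (0, 4095)] 30 = true := by decide +kernel

/-- a weight table -/
def g201c : List WE :=
  [(0, 1000, [p0, p0], 4095)]

theorem g201c_ok : chkT 2 colG prmG [p0, p0] 4095 g201c = true := by decide +kernel

theorem g201_en : enum (fun I n => n.beq 0 || (2 * n).blt (cnt I g201 + cnt I g201b + cnt I g201c)) eG2 0 0 0 = true := by decide +kernel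

theorem g2_card : enum (fun I n => n.ble 4) eG2 0 0 0 = true := by decide +kernel

end Cfsg.Agent.TwoF.DC.TF
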