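import Cfsg.Agent.TwoF.DC.TFG.Ct
import Cfsg.Agent.TwoF.DC.TFG.TabG

/-!
# TwoF, defining characteristic, type G2: the combinatorial statements (helper25)
-/

set_option autoImplicit false
set_option linter.unusedSectionVars false
set_option linter.unusedVariables false

namespace Cfsg.Agent.TwoF.DC.TF

open Module TE

/-! ### wrappers -/

/-- only the values at `0, 1, 2` matter -/
def lo (ok : ℕ → Bool) (r : ℕ) : Bool := r.ble 2 && ok r

theorem nzb_lo (rl : List (List ℤ)) (ok : ℕ → Bool) : nzb rl (lo ok) = nzb rl ok := rfl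

theorem hok_lo {p : ℕ} {ok : ℕ → Bool} (h : ∀ r ≤ 2, ok r = true → ¬ p ∣ r + 1) (r : ℕ) (hr : lo ok r = true) :
    ¬ p ∣ r + 1 := by
  rw [lo, Bool.and_eq_true, Nat.ble_eq] at hr
  exact h r hr.1 hr.2

/-- the counts of a table are lower bounds -/
def Ob {l N : ℕ} {R : RC (Fin l) (Fin N)} {p : ℕ} {k L : Type} [Field k] [AddCommGroup L] [Module k L] (H : HW R p k L)
    (ν : Fin l → ℤ) (W : List WE) : Prop := ∀ S I, Msk S I → Orb H S ν (cnt I W)

/-- modules with a short and a long node are large -/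
def Mix {ι Φ : Type} [Fintype ι] [DecidableEq ι] [DecidableEq Φ] (R : RC ι Φ) (p : ℕ) (k : Type) [Field k] (sh : ι → Bool)
    (m : ℕ) : Prop :=
  ∀ (L L' : Type) [AddCommGroup L] [Module k L] [AddCommGroup L'] [Module k L'] (H : HW R p k L) (H' : HW R p k L'),
    (∃ i, sh i = true ∧ H.lam i ≠ 0) → (∃ i, sh i = false ∧ H'.lam i ≠ 0) → ∀ S : Finset Φ, S.Nonempty → R.Ab p S →
      R.Idl p S → 2 * S.card + m ≤ H.cL S + H'.cL S ∧ ((∃ i, sh i = false ∧ H.lam i ≠ 0) → 2 * S.card + m ≤ H.cL S)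

namespace TB

variable {l N : ℕ} [NeZero N] {R : RC (Fin l) (Fin N)} {rl cols : List (List ℤ)} {prm : List (List ℕ)}
  (h : TB R rl cols prm) {p : ℕ} {ok : ℕ → Bool} (hok : ∀ r ≤ 2, ok r = true → ¬ p ∣ r + 1)
include h hok

theorem ideal' {F : List RE} (hF : chkE N rl ok F = true) {P : ℕ → ℕ → Bool} (hP : enum P F 0 0 0 = true)
    {S : Finset (Fin N)} (hA : R.Ab p S) (hI : R.Idl p S) : ∃ I, Msk S I ∧ P I S.card = true :=
  h.ideal (hok_lo hok) (by simpa only [chkE, nzb_lo] using hF) hP hA hI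

theorem en {F : List RE} (hF : chkE N rl ok F = true) {c : ℕ → ℕ} {m : ℕ}
    (hP : enum (fun I n => n.beq 0 || (m * n).blt (c I)) F 0 0 0 = true) {S : Finset (Fin N)} (hS : S.Nonempty)
    (hA : R.Ab p S) (hI : R.Idl p S) : ∃ I, Msk S I ∧ m * S.card < c I :=
  (h.ideal' hok hF hP hA hI).imp fun _ h1 => ⟨h1.1, of_en hS.card_pos h1.2⟩

variable {k L : Type} [Field k] [AddCommGroup L] [Module k L] [CharP k p] {H : HW R p k L} {ν ν' : Fin l → ℤ}
  (hl : H.lz = ν) {G M β G' M' M'' : ℕ} {μ : List ℤ} {W : List WE} {r : List (ℕ × ℕ)}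
include hl

theorem oT (h1 : chkTop N rl ok G M = true) (h2 : chkT l cols prm μ (M <<< N) W = true) (hμ : μ.length = l)
    (h0 : ∀ i, 0 ≤ tv l μ i ∧ tv l μ i ≤ ν i) (hG : ∀ a : Fin N, G.testBit a = true → ¬ (p : ℤ) ∣ R.pair ν (true, a)) :
    Ob H ν W := by
  subst hl
  exact fun S I hI => h.orb hμ h0 (h.top (hok_lo hok) (by simpa only [chkTop, nzb_lo] using h1) hG μ) h2 hI

theorem oS (h1 : chkTop N rl ok G M = true) (h2 : chkSec l N rl ok G M β G' M' = true) (h3 : chkC l prm μ M'' r M' = true)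
    (h4 : chkT l cols prm μ M'' W = true) (hμ : μ.length = l) (hβ : β < N) (hν : ν - R.wt (true, ⟨β, hβ⟩) = ν')
    (h0 : ∀ i, 0 ≤ tv l μ i ∧ tv l μ i ≤ ν' i) (hG : ∀ a : Fin N, G.testBit a = true → ¬ (p : ℤ) ∣ R.pair ν (true, a))
    (hG' : ∀ a : Fin N, G'.testBit a = true → ¬ (p : ℤ) ∣ R.pair ν' (true, a)) : Ob H ν' W := by
  subst hl hν
  exact fun S I hI => h.orb hμ h0 (h.clo h3 (h.sec (β := ⟨β, hβ⟩) (hok_lo hok)
    (by simpa only [chkTop, nzb_lo] using h1) (by simpa only [chkSec, nzb_lo] using h2) hG hG' μ)) h4 hI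

end TB

theorem Ob.base {l N : ℕ} [NeZero N] {R : RC (Fin l) (Fin N)} {p : ℕ} {k L : Type} [Field k] [AddCommGroup L] [Module k L]
    {H : HW R p k L} {ν : Fin l → ℤ} {W : List WE} (h : Ob H ν W)
    (h1 : 5 ≤ cnt (2 ^ N - 1) W ∧ ∀ b : Fin N, 0 < cnt (2 ^ (b : ℕ)) W) : 6 ≤ H.d ∧ ∀ b, H.E (true, b) 1 ≠ 0 :=
  ⟨by have := d_of_orb h; omega, ne_of_orb h h1.2⟩

theorem nd_of_lt {p a : ℕ} (h0 : a ≠ 0) (h : a < p) : ¬ (p : ℤ) ∣ (a : ℤ) := by
  rw [Int.natCast_dvd_natCast]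
  exact Nat.not_dvd_of_pos_of_lt (Nat.pos_of_ne_zero h0) h

/-! ### type G2 -/

/-- the short roots -/
def shG (b : Fin 6) : Prop := Nat.testBit 44 b = true

instance decShG : DecidablePred shG := fun b => inferInstanceAs (Decidable (Nat.testBit 44 b = true))

theorem qmG : QM rcG shG 2 ![1, 0] where
  wt := by decide +kernel
  hσ := by decide
  sh_s := by decide +kernel
  dom c h := by
    have e0 : ((fun i => ((![1, 0] : Fin 2 → ℕ) i : ℤ)) - rcG.toWt fun j => c j) 0 = 1 - (2 * c 0 + (-3 * c 1 + 0)) := rfl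
    have e1 : ((fun i => ((![1, 0] : Fin 2 → ℕ) i : ℤ)) - rcG.toWt fun j => c j) 1 = 0 - (-1 * c 0 + (2 * c 1 + 0)) := rfl
    have h0 := h 0
    have h1 := h 1
    rw [Fin.forall_fin_two, funext_iff, Fin.forall_fin_two, e0, e1, Pi.zero_apply, Pi.zero_apply]
    rw [e0] at h0
    rw [e1] at h1
    omega

theorem pairG (x y : ℤ) (a : Fin 6) : rcG.pair ![x, y] (true, a) = rcG.co a 0 * x + rcG.co a 1 * y := by
  simp [RC.pair, RC.cov, Fin.sum_univ_two]

theorem tv2 {u v x y : ℤ} (h : 0 ≤ u ∧ 0 ≤ v) (h1 : u ≤ x) (h2 : v ≤ y) (i : Fin 2) :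
    0 ≤ tv 2 [u, v] i ∧ tv 2 [u, v] i ≤ ![x, y] i := by
  fin_cases i
  exacts [⟨h.1, h1⟩, ⟨h.2, h2⟩]

theorem dom2 {x y : ℤ} (h1 : 0 ≤ x) (h2 : 0 ≤ y) : Dom ![x, y] := Fin.forall_fin_two.2 ⟨h1, h2⟩

variable {p : ℕ} {k L : Type} [Field k] [AddCommGroup L] [Module k L] [CharP k p]

theorem lz2 (H : HW rcG p k L) : ∃ a b : ℕ, a < p ∧ b < p ∧ H.lam = ![a, b] ∧ H.lz = ![(a : ℤ), b] ∧ (a ≠ 0 ∨ b ≠ 0) := by
  refine ⟨H.lam 0, H.lam 1, H.lam_lt 0, H.lam_lt 1, ?_, ?_, ?_⟩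
  · funext i; fin_cases i <;> rfl
  · funext i; fin_cases i <;> rfl
  · by_contra h
    exact H.lam_ne (funext (Fin.forall_fin_two.2 ⟨by simp at h; exact h.1, by simp at h; exact h.2⟩))

theorem hG48 {a b : ℕ} (ha : a < p) (hb : b < p) {G : ℕ}
    (h : ∀ x : Fin 6, G.testBit x = true → x = 4 ∧ G.testBit 4 = true ∨ x = 5 ∧ G.testBit 5 = true)
    (h1 : G.testBit 5 = true → a ≠ 0) (h2 : G.testBit 4 = true → b ≠ 0) (x : Fin 6) (hx : G.testBit x = true) :
    ¬ (p : ℤ) ∣ rcG.pair ![(a : ℤ), b] (true, x) := by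
  rw [pairG]
  rcases h x hx with ⟨rfl, h3⟩ | ⟨rfl, h3⟩
  · rw [show rcG.co 4 0 = 0 from rfl, show rcG.co 4 1 = 1 from rfl]
    simpa using nd_of_lt (h2 h3) hb
  · rw [show rcG.co 5 0 = 1 from rfl, show rcG.co 5 1 = 0 from rfl]
    simpa using nd_of_lt (h1 h3) ha

theorem dichG5 (hp : 5 ≤ p) : Dich rcG p k (fun _ => True) ![1, 0] 1 := by
  intro L _ _ H _
  have hok : ∀ r ≤ 2, okA r = true → ¬ p ∣ r + 1 := fun r hr _ => Nat.not_dvd_of_pos_of_lt (by omega) (by omega)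
  obtain ⟨a, b, ha, hb, hm, hl, h0⟩ := lz2 H
  rw [← and_assoc]
  by_cases h1 : a = 0
  · subst h1
    have h2 : b ≠ 0 := by omega
    have hG := hG48 (G := 16) ha hb (by decide) (by decide) fun _ => h2
    have h3 := tbG.oT hok hl gA01_top gA01_ok rfl (tv2 (by decide) le_rfl (by show (1 : ℤ) ≤ _; omega)) hG
    have h4 := tbG.oS (ν' := ![1, (b : ℤ) - 1]) hok hl gA01_top gA01b_sec gA01b_clo gA01b_ok rfl (by decide)
      (by funext i; fin_cases i <;> rfl) (tv2 (by decide) le_rfl (by show (0 : ℤ) ≤ _; omega)) hG fun x hx => by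
        obtain rfl : x = 1 := by revert x; decide
        rw [pairG, show rcG.co 1 0 = 1 from rfl, show rcG.co 1 1 = 1 from rfl]
        simpa using nd_of_lt h2 hb
    refine ⟨h3.base (by decide +kernel), fun S hS hA hI => Or.inl ?_⟩
    obtain ⟨I, h5, h6⟩ := tbG.en hok eGA_ok gA01_en hS hA hI
    exact h6.trans_le ((h3 S I h5).le2 (h4 S I h5) (dom2 (by omega) (by omega)) (dom2 (by omega) (by omega))
      fun h => by simpa using congrFun h 0)
  by_cases h2 : b = 0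
  swap
  · have h3 := tbG.oT hok hl gA11_top gA11_ok rfl (tv2 (by decide) (by show (1 : ℤ) ≤ _; omega)
      (by show (1 : ℤ) ≤ _; omega)) (hG48 ha hb (by decide) (fun _ => h1) fun _ => h2)
    refine ⟨h3.base (by decide +kernel), fun S hS hA hI => Or.inl ?_⟩
    obtain ⟨I, h5, h6⟩ := tbG.en hok eGA_ok gA11_en hS hA hI
    exact h6.trans_le (h3 S I h5).le1
  subst h2
  have hG := hG48 (G := 32) ha hb (by decide) (fun _ => h1) (by decide)
  have h3 := tbG.oT hok hl gA10_top gA10_ok rfl (tv2 (by decide) (by show (1 : ℤ) ≤ _; omega) le_rfl) hG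
  refine ⟨h3.base (by decide +kernel), fun S hS hA hI => ?_⟩
  by_cases h4 : a = 1
  · subst h4
    have hG : ∀ x : Fin 6, Nat.testBit 36 x = true → ¬ (p : ℤ) ∣ rcG.pair ![((1 : ℕ) : ℤ), (0 : ℕ)] (true, x) := fun x hx => by
      have h4 : rcG.pair ![((1 : ℕ) : ℤ), (0 : ℕ)] (true, x) = (1 : ℕ) ∨
        rcG.pair ![((1 : ℕ) : ℤ), (0 : ℕ)] (true, x) = (2 : ℕ) := by revert x; decide +kernel
      rcases h4 with h4 | h4 <;> rw [h4] <;> exact nd_of_lt (by omega) (by omega)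
    have h4 := tbG.oT hok hl gA10s_top gA10s_ok rfl (by decide) hG
    have h5 := tbG.oS (ν' := 0) hok hl gA10s_top gA10b_sec gA10b_clo gA10b_ok rfl (by decide) (by decide +kernel)
      (by decide) hG fun x hx => by simp at hx
    obtain ⟨I, h6, h7⟩ := tbG.en hok eGA_ok gA10_en hS hA hI
    have := (h4 S I h6).le2 (h5 S I h6) (dom2 (by omega) (by omega)) (fun _ => le_rfl) (by decide)
    exact Or.inr ⟨hm, by omega⟩
  · have h5 := tbG.oS (ν' := ![(a : ℤ) - 2, 1]) hok hl gA10_top gA20b_sec gA20b_clo gA20b_ok rfl (by decide)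
      (by funext i; fin_cases i <;> rfl) (tv2 (by decide) (by show (0 : ℤ) ≤ _; omega) le_rfl) hG fun x hx => by
        obtain rfl : x = 4 := by revert x; decide
        rw [pairG, show rcG.co 4 0 = 0 from rfl, show rcG.co 4 1 = 1 from rfl]
        simpa using nd_of_lt (p := p) one_ne_zero (by omega)
    obtain ⟨I, h6, h7⟩ := tbG.en hok eGA_ok gA20_en hS hA hI
    exact Or.inl (h7.trans_le ((h3 S I h6).le2 (h5 S I h6) (dom2 (by omega) (by omega)) (dom2 (by omega) (by omega))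
      fun h => by simpa using congrFun h 1))

theorem dichG2 [CharP k 2] : Dich rcG 2 k (fun _ => True) ![1, 0] 0 := by
  intro L _ _ H _
  have hok : ∀ r ≤ 2, ok2 r = true → ¬ 2 ∣ r + 1 := by decide
  obtain ⟨a, b, ha, hb, hm, hl, h0⟩ := lz2 H
  rw [← and_assoc]
  obtain ⟨rfl, rfl⟩ | ⟨rfl, rfl⟩ | ⟨rfl, rfl⟩ : a = 1 ∧ b = 1 ∨ a = 1 ∧ b = 0 ∨ a = 0 ∧ b = 1 := by omega
  · have h3 := tbG.oT hok hl g211_top g211_ok rfl (by decide) (by decide +kernel)
    refine ⟨h3.base (by decide +kernel), fun S hS hA hI => Or.inl ?_⟩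
    obtain ⟨I, h5, h6⟩ := tbG.en hok eG2_ok g211_en hS hA hI
    exact h6.trans_le (h3 S I h5).le1
  · have h3 := tbG.oT hok hl g210_top g210_ok rfl (by decide) (by decide +kernel)
    refine ⟨h3.base (by decide +kernel), fun S hS hA hI => Or.inr ⟨hm, ?_⟩⟩
    obtain ⟨I, h5, h6⟩ := tbG.ideal' hok eG2_ok g210_en hA hI
    have := (h3 S I h5).le1
    have := hS.card_pos
    rw [Bool.or_eq_true, Nat.beq_eq, Nat.ble_eq] at h6
    omega
  · have h3 := tbG.oT hok hl g201_top g201_ok rfl (by decide) (by decide +kernel)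
    have h4 := tbG.oS (ν' := ![1, 0]) hok hl g201_top g201b_sec g201b_clo g201b_ok rfl (by decide) (by decide +kernel)
      (by decide) (by decide +kernel) (by decide +kernel)
    have h5 := tbG.oS (ν' := ![0, 0]) hok hl g201_top g201c_sec g201c_clo g201c_ok rfl (by decide) (by decide +kernel)
      (by decide) (by decide +kernel) (by decide +kernel)
    refine ⟨⟨(h3.base ⟨by decide +kernel, by decide +kernel⟩).1, ne_of_orb h5 (by decide +kernel)⟩,
      fun S hS hA hI => Or.inl ?_⟩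
    obtain ⟨I, h6, h7⟩ := tbG.en hok eG2_ok g201_en hS hA hI
    exact h7.trans_le ((h3 S I h6).le3 (h4 S I h6) (h5 S I h6) (dom2 (by omega) (by omega)) (dom2 (by omega) (by omega))
      (dom2 (by omega) (by omega)) (by decide) (by decide) (by decide))

section three

variable [CharP k 3] {H : HW rcG 3 k L}

theorem hok3 : ∀ r ≤ 2, ok3 r = true → ¬ 3 ∣ r + 1 := by decide

theorem le10 (hl : H.lz = ![((1 : ℕ) : ℤ), (0 : ℕ)]) {S : Finset (Fin 6)} {I : ℕ} (h : Msk S I) :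
    cnt I g310 + cnt I g310b ≤ H.cL S :=
  (tbG.oT hok3 hl g310_top g310_ok rfl (by decide) (by decide +kernel) S I h).le2
    (tbG.oS (ν' := ![0, 0]) hok3 hl g310_top g310b_sec g310b_clo g310b_ok rfl (by decide) (by decide +kernel)
      (by decide) (by decide +kernel) (by decide +kernel) S I h)
    (dom2 (by omega) (by omega)) (dom2 (by omega) (by omega)) (by decide)

theorem big20 (hl : H.lz = ![((2 : ℕ) : ℤ), (0 : ℕ)]) {S : Finset (Fin 6)} (hS : S.Nonempty) (hA : rcG.Ab 3 S)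
    (hI : rcG.Idl 3 S) : 2 * S.card < H.cL S := by
  obtain ⟨I, h, h1⟩ := tbG.en hok3 eG3_ok g320_en hS hA hI
  exact h1.trans_le ((tbG.oT hok3 hl g310_top g310_ok rfl (by decide) (by decide +kernel) S I h).le3
    (tbG.oS (ν' := ![0, 1]) hok3 hl g310_top g320b_sec g320b_clo g320b_ok rfl (by decide) (by decide +kernel)
      (by decide) (by decide +kernel) (by decide +kernel) S I h)
    (tbG.oS (ν' := ![1, 0]) hok3 hl g310_top g320c_sec g320c_clo g320c_ok rfl (by decide) (by decide +kernel)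
      (by decide) (by decide +kernel) (by decide +kernel) S I h)
    (dom2 (by omega) (by omega)) (dom2 (by omega) (by omega)) (dom2 (by omega) (by omega)) (by decide) (by decide)
    (by decide))

theorem big11 (h0 : H.lam 0 ≠ 0) (h1 : H.lam 1 ≠ 0) {S : Finset (Fin 6)} (hS : S.Nonempty) (hA : rcG.Ab 3 S)
    (hI : rcG.Idl 3 S) : 2 * S.card < H.cL S := by
  obtain ⟨a, b, ha, hb, hm, hl, -⟩ := lz2 H
  rw [hm] at h0 h1
  change a ≠ 0 at h0
  change b ≠ 0 at h1
  obtain ⟨I, h, h2⟩ := tbG.en hok3 eG3_ok g311_en hS hA hI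
  exact h2.trans_le (tbG.oT hok3 hl g311_top g311_ok rfl (tv2 (by decide) (by show (1 : ℤ) ≤ _; omega)
    (by show (1 : ℤ) ≤ _; omega)) (hG48 ha hb (by decide) (fun _ => h0) fun _ => h1) S I h).le1

end three

/-- the short node -/
def sG (i : Fin 2) : Bool := i == 0

theorem dichG3 [CharP k 3] : Dich rcG 3 k (fun l => ∀ i, sG i = false → l i = 0) ![1, 0] 1 := by
  intro L _ _ H hH
  obtain ⟨a, b, ha, hb, hm, hl, h0⟩ := lz2 H
  have h1 := hH 1 rfl
  rw [hm] at h1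
  change b = 0 at h1
  subst h1
  rw [← and_assoc]
  obtain rfl | rfl : a = 1 ∨ a = 2 := by omega
  · refine ⟨(tbG.oT hok3 hl g310_top g310_ok rfl (by decide) (by decide +kernel)).base (by decide +kernel),
      fun S hS hA hI => Or.inr ⟨hm, ?_⟩⟩
    obtain ⟨I, h, h1⟩ := tbG.en hok3 eG3_ok g310_en hS hA hI
    have := le10 hl h
    omega
  · exact ⟨(tbG.oT hok3 hl g310_top g310_ok rfl (by decide) (by decide +kernel)).base (by decide +kernel),
      fun S hS hA hI => Or.inl (big20 hl hS hA hI)⟩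

theorem mixG3 [CharP k 3] : Mix rcG 3 k sG 1 := by
  intro L L' _ _ _ _ H H' ⟨i, h1, h2⟩ ⟨i', h3, h4⟩ S hS hA hI
  have e0 : ∀ i, sG i = true → i = 0 := by decide
  have e1 : ∀ i, sG i = false → i = 1 := by decide
  obtain rfl := e0 i h1
  obtain rfl := e1 i' h3
  refine ⟨?_, fun ⟨i, h5, h6⟩ => big11 h2 (by rwa [← e1 i h5]) hS hA hI⟩
  by_cases h5 : H.lam 1 = 0
  swap
  · exact le_add_right (big11 h2 h5 hS hA hI)
  by_cases h6 : H'.lam 0 = 0
  swap
  · exact le_add_left (big11 h6 h4 hS hA hI)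
  obtain ⟨a, b, ha, hb, hm, hl, -⟩ := lz2 H
  obtain ⟨a', b', ha', hb', hm', hl', -⟩ := lz2 H'
  rw [hm] at h2 h5
  rw [hm'] at h4 h6
  change a ≠ 0 at h2
  change b = 0 at h5
  change b' ≠ 0 at h4
  change a' = 0 at h6
  subst h5 h6
  obtain rfl | rfl : a = 1 ∨ a = 2 := by omega
  · obtain ⟨I, h, h7⟩ := tbG.en hok3 eG3_ok g3pair_en hS hA hI
    have h8 : cnt I g301 ≤ H'.cL S := by
      obtain rfl | rfl : b' = 1 ∨ b' = 2 := by omega
      all_goals exact (tbG.oT hok3 hl' g301_top g301_ok rfl (by decide) (by decide +kernel) S I h).le1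
    have := le10 hl h
    omega
  · exact le_add_right (big20 hl hS hA hI)

variable {G : Type} [Group G] {D : RDat p (Fin 2) (Fin 6) k G}

theorem gdG1 (hR : D.R = rcG) : Gd D ![1, 0] 1 := by
  intro σ F hF S hS _ _ _ hJ
  have Q : QM D.R shG 2 ![1, 0] := hR ▸ qmG
  have h1 : Fintype.card F.J ≤ 1 := by
    by_contra h
    have := Nat.mul_le_mul_right (S.card + 1) (show 2 ≤ Fintype.card F.J by omega)
    omega
  refine good_fix F (fun j => (hF j).2) (S := {0}) (Finset.singleton_nonempty _) (fun b hb b' hb' => ?_) (fun j => ?_)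
    (c := 2) (fun j => ?_) (by rw [Finset.card_singleton]; omega)
  · refine comm_of_hv D (h := ![0, 1]) (t := 2) (by omega) ?_ ?_ ?_ <;> rw [hR]
    · decide +kernel
    · revert b; decide +kernel
    · revert b'; decide +kernel
  · refine (Q.cubic (hF j).1 (h := ![0, 1]) (t := 2) (by decide) ?_ ?_ ?_).1 <;> rw [hR] <;> decide +kernel
  · refine Q.cG_le' (hF j).1 _ (Or.inr (by decide)) {(false, 2), (false, 3)} ?_
    rw [hR]; decide +kernel

theorem gdG0 (hp : p = 2) (hR : D.R = rcG) : Gd D ![1, 0] 0 := by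
  intro σ F hF S hS _ _ _ hJ
  have Q : QM D.R shG 2 ![1, 0] := hR ▸ qmG
  have h1 : Fintype.card F.J ≤ 2 := Nat.le_of_mul_le_mul_right hJ hS.card_pos
  refine good_fix F (fun j => (hF j).2) (S := {0, 1, 2}) (Finset.insert_nonempty _ _) (fun b hb b' hb' => ?_) (fun j => ?_)
    (c := 3) (fun j => ?_) (by rw [show ({0, 1, 2} : Finset (Fin 6)).card = 3 from rfl]; omega)
  · refine comm_of_hv D (h := ![1, 0]) (t := 2) (by omega) ?_ ?_ ?_ <;> rw [hR]
    · decide +kernel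
    · revert b; decide +kernel
    · revert b'; decide +kernel
  · refine (Q.cubic (hF j).1 (h := ![1, 0]) (t := 2) (by decide) ?_ ?_ ?_).1 <;> rw [hR] <;> decide +kernel
  · refine Q.cG_le' (hF j).1 _ (Or.inl (Q.not_wt_zero (hF j).1 hp (i := 0) ?_)) {(false, 2), (false, 3), (false, 5)} ?_ <;>
      rw [hR] <;> decide +kernel

end Cfsg.Agent.TwoF.DC.TF
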