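import Cfsg.Agent.TwoF.DC.TFG.Cmb
import Cfsg.Agent.TwoF.DC.TFG.RD

/-!
# TwoF, defining characteristic, type F4: tables (helper25, generated)

Positive roots by decreasing height; the nodes `0`, `1` are short.
-/

set_option autoImplicit false
set_option synthInstance.maxSize 4000
set_option linter.unusedVariables false

namespace Cfsg.Agent.TwoF.DC.TF

open Cfsg.Lie TE

/-- structure constants `± 1` -/
def ok0 (r : ℕ) : Bool := r.beq 0
/-- structure constants `± 1`, `± 2` -/
def ok1 (r : ℕ) : Bool := r.ble 1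

/-- the positive roots -/
def cfF : List (List ℕ) :=
  [[2, 4, 3, 2], [2, 4, 3, 1], [2, 4, 2, 1], [2, 3, 2, 1], [1, 3, 2, 1], [2, 2, 2, 1], [1, 2, 2, 1], [2, 2, 1, 1],
    [0, 2, 2, 1], [1, 2, 1, 1], [2, 2, 1, 0], [0, 2, 1, 1], [1, 1, 1, 1], [1, 2, 1, 0], [0, 1, 1, 1], [0, 2, 1, 0],
    [1, 1, 1, 0], [0, 0, 1, 1], [0, 1, 1, 0], [1, 1, 0, 0], [0, 0, 0, 1], [0, 0, 1, 0], [0, 1, 0, 0], [1, 0, 0, 0]]

/-- the positive coroots -/
def coF : List (List ℕ) :=
  [[1, 2, 3, 2], [1, 2, 3, 1], [1, 2, 2, 1], [2, 3, 4, 2], [1, 3, 4, 2], [1, 1, 2, 1], [1, 2, 4, 2], [1, 1, 1, 1],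
    [0, 1, 2, 1], [1, 2, 2, 2], [1, 1, 1, 0], [0, 1, 1, 1], [1, 1, 2, 2], [1, 2, 2, 0], [0, 1, 2, 2], [0, 1, 1, 0],
    [1, 1, 2, 0], [0, 0, 1, 1], [0, 1, 2, 0], [1, 1, 0, 0], [0, 0, 0, 1], [0, 0, 1, 0], [0, 1, 0, 0], [1, 0, 0, 0]]

/-- the Cartan matrix -/
def cmF : List (List ℤ) :=
  [[p2, m1, p0, p0], [m1, p2, m2, p0], [p0, m1, p2, m1], [p0, p0, m1, p2]]

/-- the simple reflections on root codes -/
def prmF : List (List ℕ) :=
  [
    [0, 1, 2, 4, 3, 8, 6, 11, 5, 9, 15, 7, 14, 13, 12, 10, 18, 17, 16, 22, 20, 21, 19, 47, 24, 25, 26, 28, 27, 32, 30, 35, 29, 33, 39, 31, 38, 37, 36, 34, 42, 41, 40, 46, 44, 45, 43, 23],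
    [0, 1, 5, 3, 6, 2, 4, 7, 8, 12, 10, 17, 9, 16, 14, 21, 13, 11, 18, 23, 20, 15, 46, 19, 24, 25, 29, 27, 30, 26, 28, 31, 32, 36, 34, 41, 33, 40, 38, 45, 37, 35, 42, 47, 44, 39, 22, 43],
    [0, 2, 1, 3, 4, 7, 9, 5, 11, 6, 10, 8, 12, 13, 14, 15, 19, 20, 22, 16, 17, 45, 18, 23, 24, 26, 25, 27, 28, 31, 33, 29, 35, 30, 34, 32, 36, 37, 38, 39, 43, 44, 46, 40, 41, 21, 42, 47],
    [1, 0, 2, 3, 4, 5, 6, 10, 8, 13, 7, 15, 16, 9, 18, 11, 12, 21, 14, 19, 44, 17, 22, 23, 25, 24, 26, 27, 28, 29, 30, 34, 32, 37, 31, 39, 40, 33, 42, 35, 36, 45, 38, 43, 20, 41, 46, 47]]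

/-- all roots -/
def rlF : List (List ℤ) :=
  [[p2, p4, p3, p2], [p2, p4, p3, p1], [p2, p4, p2, p1], [p2, p3, p2, p1], [p1, p3, p2, p1], [p2, p2, p2, p1],
    [p1, p2, p2, p1], [p2, p2, p1, p1], [p0, p2, p2, p1], [p1, p2, p1, p1], [p2, p2, p1, p0], [p0, p2, p1, p1],
    [p1, p1, p1, p1], [p1, p2, p1, p0], [p0, p1, p1, p1], [p0, p2, p1, p0], [p1, p1, p1, p0], [p0, p0, p1, p1],
    [p0, p1, p1, p0], [p1, p1, p0, p0], [p0, p0, p0, p1], [p0, p0, p1, p0], [p0, p1, p0, p0], [p1, p0, p0, p0],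
    [m2, m4, m3, m2], [m2, m4, m3, m1], [m2, m4, m2, m1], [m2, m3, m2, m1], [m1, m3, m2, m1], [m2, m2, m2, m1],
    [m1, m2, m2, m1], [m2, m2, m1, m1], [p0, m2, m2, m1], [m1, m2, m1, m1], [m2, m2, m1, p0], [p0, m2, m1, m1],
    [m1, m1, m1, m1], [m1, m2, m1, p0], [p0, m1, m1, m1], [p0, m2, m1, p0], [m1, m1, m1, p0], [p0, p0, m1, m1],
    [p0, m1, m1, p0], [m1, m1, p0, p0], [p0, p0, p0, m1], [p0, p0, m1, p0], [p0, m1, p0, p0], [m1, p0, p0, p0]]

/-- the simple roots as weights -/
def colF : List (List ℤ) :=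
  [[p2, m1, p0, p0], [m1, p2, m1, p0], [p0, m2, p2, m1], [p0, p0, m1, p2]]

/-- the numbers of the roots in the Chevalley datum -/
def ixF (b : Fin 24) : ℕ :=
  List.getD [47, 46, 45, 44, 40, 43, 39, 42, 32, 38, 41, 31, 36, 37, 29, 30, 35, 26, 28, 34, 24, 25, 27, 33] b 0

/-- the root combinatorics -/
def rcF : RC (Fin 4) (Fin 24) where
  zi := ![23, 22, 21, 20]
  cf b j := (cfF.getD b []).getD j 0
  co b j := (coF.getD b []).getD j 0
  C i j := gz (rg cmF i) j
  s i b := Fin.ofNat 24 ((prmF.getD i []).getD b 0)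
  cf_zi := by decide +kernel
  co_zi := by decide +kernel
  C_self := by decide +kernel
  C_inj c h := by
    have h0 := h 0
    have h1 := h 1
    have h2 := h 2
    have h3 := h 3
    simp only [Fin.sum_univ_succ, Fin.sum_univ_zero] at h0 h1 h2 h3
    change (2 : ℤ) * c 0 + ((-1 : ℤ) * c 1 + ((0 : ℤ) * c 2 + ((0 : ℤ) * c 3 + 0))) = 0 at h0
    change (-1 : ℤ) * c 0 + ((2 : ℤ) * c 1 + ((-2 : ℤ) * c 2 + ((0 : ℤ) * c 3 + 0))) = 0 at h1
    change (0 : ℤ) * c 0 + ((-1 : ℤ) * c 1 + ((2 : ℤ) * c 2 + ((-1 : ℤ) * c 3 + 0))) = 0 at h2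
    change (0 : ℤ) * c 0 + ((0 : ℤ) * c 1 + ((-1 : ℤ) * c 2 + ((2 : ℤ) * c 3 + 0))) = 0 at h3
    funext i
    fin_cases i <;> simp <;> omega
  cf_inj := by decide +kernel
  red b i n h := by
    have h1 : ∀ (b : Fin 24) (i : Fin 4), (∀ j : Fin 4, j ≠ i → (cfF.getD b []).getD j 0 = 0) →
        b = (![23, 22, 21, 20] : Fin 4 → Fin 24) i := by decide +kernel
    exact h1 b i fun j hj => (congrFun h j).trans (by simp [hj])
  cf_s := by decide +kernel
  co_s := by decide +kernel
  desc := by decide +kernel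

theorem tbF : TB rcF rlF colF prmF where
  len := by decide +kernel
  hrl := by decide +kernel
  hcol := by decide +kernel
  hprm := by decide +kernel

theorem tabF : RD.Tab chevF4 4 rcF ixF where
  lt := by decide +kernel
  cf := by decide +kernel
  C := by decide +kernel
  surj := by decide +kernel

/-- heights -/
def htF : RD.Hts chevF4 4 where
  c := ![19, 36, 51, 27]
  hw := ![2, 2, 3, 3]
  pos := by decide +kernel
  eq := by decide +kernel

/-- the masks for the enumeration -/
def eF0 : List RE :=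
  [([], [], 0, 0), ([], [], 1, 1048576), ([], [], 3, 2228224), ([], [], 0, 0), ([], [], 8, 8388608),
    ([], [], 11, 4229120), ([], [], 24, 4718592), ([], [], 45, 2392320), ([], [], 83, 8914048),
    ([], [], 88, 2424832), ([], [], 174, 1198336), ([], [], 789, 10552352), ([], [], 600, 4497408),
    ([], [], 600, 1200128), ([], [], 4696, 8987648), ([], [], 10518, 9572512), ([], [], 12376, 5261824),
    ([], [], 20833, 4760580), ([], [], 90200, 9966208), ([], [], 78360, 2507072), ([], [], 154241, 2466818),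
    ([], [], 459106, 5769860), ([], [], 811544, 10686560), ([], [], 602696, 4507920)]

theorem eF0_ok : chkE 24 rlF ok0 eF0 = true := by decide +kernel

/-- the masks for the enumeration -/
def eF1 : List RE :=
  [([], [], 0, 0), ([], [], 1, 1048576), ([], [], 3, 2228224), ([], [], 7, 4472832), ([], [], 15, 8982528),
    ([], [], 11, 4229120), ([], [], 59, 13115904), ([], [], 45, 2392320), ([], [], 83, 8914048),
    ([], [], 221, 10821696), ([], [], 174, 1198336), ([], [], 789, 10552352), ([], [], 761, 5087248),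
    ([], [], 1630, 9589312), ([], [], 7001, 13444104), ([], [], 10518, 9572512), ([], [], 13434, 5790224),
    ([], [], 20833, 4760580), ([], [], 123226, 14176904), ([], [], 79516, 2576720), ([], [], 154241, 2466818),
    ([], [], 459106, 5769860), ([], [], 846364, 10965096), ([], [], 603880, 4516688)]

theorem eF1_ok : chkE 24 rlF ok1 eF1 = true := by decide +kernel

theorem f1_top : chkTop 24 rlF ok0 4194304 5111807 = true := by decide +kernel

/-- a weight table -/
def f1 : List WE :=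
  [(3, 2, [m1, p2, p0, m2], 85367148663521), (3, 3, [p2, m1, p1, m2], 190370840468241),
    (3, 4, [p1, p1, p0, m2], 226104494414657), (2, 4, [m1, p2, m2, p2], 97146080928866),
    (0, 5, [m3, p1, p1, m1], 110953275856552), (2, 5, [p2, m1, m1, p2], 169679820005650),
    (0, 4, [m2, m1, p1, p1], 59757252125836), (2, 4, [p1, p1, m2, p2], 237883426709826),
    (0, 3, [m1, m2, p2, p0], 43230788331140), (0, 3, [m3, p1, p0, p1], 95431246292136),
    (1, 3, [p3, m2, p1, m1], 186044734556944), (1, 3, [p2, m3, p1, p1], 197160092870676),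
    (1, 3, [p1, m3, p2, p0], 183968134113796), (1, 3, [p3, m2, p0, p1], 170522705176848),
    (2, 3, [p1, p2, m1, m1], 221717455851840), (2, 3, [m1, p3, m2, p1], 97764690559072),
    (2, 3, [m2, p3, m1, p0], 84572731805728), (2, 3, [p1, p2, m2, p1], 237763436151104),
    (3, 3, [p1, p0, p1, m2], 190922001373696), (3, 3, [m1, m1, p2, m1], 43849398878848),
    (3, 3, [m2, p1, p1, m1], 112053005586560), (3, 3, [p1, m2, p2, m1], 183848144472576),
    (2, 2, [p1, p0, m1, p2], 169715584835584), (0, 1, [m1, m1, p1, p1], 59766546637824),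
    (0, 2, [m2, p1, p0, p1], 95500200641536), (1, 2, [p1, m2, p1, p1], 197173279498240),
    (3, 2, [p1, p1, p0, m1], 226117127651328), (1, 1, [p2, m1, p0, p1], 170797952172032),
    (2, 1, [m1, p2, m1, p1], 97838811906048), (2, 1, [p1, p1, m1, p1], 238039958028288),
    (0, 0, [m1, p0, p1, p0], 43961129893888), (1, 0, [p1, m1, p1, p0], 184133825331200),
    (0, 1000, [p0, p1, p0, p0], 85761890189312)]

theorem f1_ok : chkT 4 colF prmF [p0, p1, p0, p0] (5111807 <<< 24) f1 = true := by decide +kernel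

theorem f03_top : chkTop 24 rlF ok0 9437184 10174463 = true := by decide +kernel

/-- a weight table -/
def f03 : List WE :=
  [(2, 3, [p0, p3, m1, m2], 85367276589345), (3, 3, [p1, m1, p2, m3], 182125576997505),
    (2, 3, [m4, p3, m1, p1], 93222628562088), (0, 3, [m3, m1, p2, p0], 42645867472524),
    (3, 3, [p0, p1, p1, m3], 120551646582913), (2, 3, [p1, m1, m1, p3], 160919160398850),
    (0, 3, [m4, p1, p1, p0], 113013802210472), (1, 3, [p3, m4, p2, p0], 179310107863572),
    (2, 3, [p0, p1, m2, p3], 99345230038018), (1, 3, [p1, m3, p1, p2], 196073465619460),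
    (1, 4, [p4, m3, p1, p0], 188105261107472), (2, 4, [m1, p4, m2, p0], 79914705555552),
    (1, 4, [p0, m3, p2, p1], 60823100228612), (2, 5, [m2, p3, m2, p2], 97700257530912),
    (1, 5, [p3, m3, p2, m1], 183777008601600), (2, 5, [p1, p3, m2, p0], 220652051513664),
    (3, 5, [m1, p0, p2, m2], 41392606286464), (2, 6, [m3, p3, m1, p1], 93369898370080),
    (2, 6, [p2, p1, m2, p2], 97163923521792), (0, 5, [m2, m1, p2, p0], 43815029703808),
    (2, 5, [p0, p3, m1, m1], 85403800588288), (3, 5, [p1, m1, p2, m2], 182129955719680),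
    (0, 4, [m1, p0, p0, p2], 20186204283904), (2, 4, [p3, p0, m1, p1], 168461487603968),
    (0, 3, [m3, p1, p1, p0], 113161105572992), (1, 3, [p2, m3, p2, p0], 43250241538048),
    (3, 3, [p0, p1, p1, m2], 120556495196160), (1, 2, [p1, m1, p0, p2], 160923553931264),
    (1, 2, [p3, m2, p1, p0], 188252694808576), (2, 2, [m1, p3, m1, p0], 75797039808512),
    (2, 2, [p0, p1, m1, p2], 99350095396864), (2, 2, [p1, p2, m1, p0], 151453417209856),
    (3, 2, [m1, p1, p1, m1], 110979800104960), (1, 1, [p0, m1, p1, p1], 60859674525696),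
    (3, 1, [p1, p0, p1, m1], 186607723347968), (0, 0, [m1, p1, p0, p1], 95571603881984),
    (0, 1000, [p1, p0, p0, p1], 170699163435008)]

theorem f03_ok : chkT 4 colF prmF [p1, p0, p0, p1] (10174463 <<< 24) f03 = true := by decide +kernel

theorem f2_top : chkTop 24 rlF ok1 2097152 2621439 = true := by decide +kernel

/-- a weight table -/
def f2 : List WE :=
  [(3, 3, [m2, p2, p1, m3], 111759722697377), (3, 3, [p2, p2, m1, m2], 221708597483841),
    (0, 3, [m4, p0, p1, p1], 60238284268716), (3, 3, [p2, p0, p1, m3], 190920659196673),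
    (2, 3, [m2, p2, m2, p3], 90553306129442), (2, 3, [p2, p2, m3, p2], 237625728794946),
    (1, 3, [p4, m4, p1, p1], 196902394308884), (2, 4, [p2, p0, m2, p3], 169714242658562),
    (0, 3, [m2, m2, p2, p1], 59757822485636), (1, 3, [p2, m4, p3, m1], 183710437116420),
    (2, 3, [p0, p4, m3, p1], 97506984132960), (0, 3, [m4, p2, p0, p1], 95431346947232),
    (1, 3, [p2, m4, p2, p1], 197164421130244), (2, 3, [m2, p4, m1, m1], 84315034751008),
    (3, 3, [p0, m2, p3, m2], 43591692454528), (1, 3, [p4, m2, p0, p1], 170522805831936),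
    (2, 3, [m2, p4, m2, p1], 97769018818592), (3, 3, [m2, p2, p1, m2], 111795307155584),
    (1, 2, [p0, m2, p1, p2], 55370639254528), (2, 2, [p2, p2, m2, p1], 237764006510848),
    (3, 2, [m2, p0, p2, m1], 43883821531264), (2, 1, [m2, p2, m1, p2], 91104303186944),
    (3, 1, [p2, m2, p2, m1], 183850358540288), (0, 0, [m2, p0, p1, p1], 60316365358080),
    (1, 0, [p2, m2, p1, p1], 197190525943808), (2, 0, [p0, p2, m1, p1], 97856520192000),
    (0, 1000, [p0, p0, p1, p0], 43980448333824)]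

theorem f2_ok : chkT 4 colF prmF [p0, p0, p1, p0] (2621439 <<< 24) f2 = true := by decide +kernel

theorem f3_top : chkTop 24 rlF ok1 1048576 1203199 = true := by decide +kernel

/-- a weight table -/
def f3 : List WE :=
  [(3, 0, [p0, p0, p0, m1], 1203199), (2, 0, [p0, p0, m1, p1], 17592188511615),
    (1, 0, [p0, m2, p1, p0], 37383400107679), (2, 1, [m2, p2, m1, p0], 70952870417643),
    (2, 2, [p2, p0, m1, p0], 149552911272275), (0, 1, [m2, p0, p1, m1], 40136479348397),
    (0, 1, [m2, p0, p0, p1], 20104750900398), (1, 1, [p2, m2, p1, m1], 177039094106901),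
    (1, 1, [p2, m2, p0, p1], 160600105986326), (2, 1, [p0, p2, m1, m1], 79869282242913),
    (2, 1, [p0, p2, m2, p1], 96802190066018), (3, 1, [p0, p0, p1, m2], 41386339621505),
    (3, 2, [p0, m2, p2, m1], 42886898387588), (2, 1, [p0, p0, m1, p2], 20179923084290),
    (3, 2, [m2, p2, p0, m1], 75493018833056), (1, 1, [p0, m2, p1, p1], 55325105890308),
    (3, 1, [p2, p0, p0, m1], 150790632261888), (2, 1, [m2, p2, m1, p1], 88833171457056),
    (2, 1, [p2, p0, m1, p1], 167223161553152), (0, 0, [m2, p0, p1, p0], 42646131704960),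
    (1, 0, [p2, m2, p1, p0], 179310241548288), (2, 0, [p0, p2, m1, p0], 79914831314944),
    (3, 0, [p0, p0, p1, m1], 41392731586560), (0, 1000, [p0, p0, p0, p1], 20186329513984)]

theorem f3_ok : chkT 4 colF prmF [p0, p0, p0, p1] (1203199 <<< 24) f3 = true := by decide +kernel

theorem f3b_sec : chkSec 4 24 rlF ok1 1048576 1203199 14 8987648 150787716284416 = true := by decide +kernel

theorem f3b_clo : chkC 4 prmF [p1, p0, p0, p0] 225910838280192
    [(1, 221156460462080), (2, 225554506973184), (3, 225908841791488), (2, 225910452404224), (1, 225910787948544),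
    (2, 225910821502976), (3, 225910838280192)]
    150787716284416 = true := by decide +kernel

/-- a weight table -/
def f3b : List WE :=
  [(2, 0, [p0, p1, m1, p1], 238013626261568), (1, 0, [p0, m1, p1, p0], 184113366049280),
    (0, 0, [m1, p1, p0, p0], 85741766512640), (0, 1000, [p1, p0, p0, p0], 225910838280192)]

theorem f3b_ok : chkT 4 colF prmF [p1, p0, p0, p0] 225910838280192 f3b = true := by decide +kernel

theorem f0_top : chkTop 24 rlF ok0 8388608 8992511 = true := by decide +kernel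

/-- a weight table -/
def f0 : List WE :=
  [(0, 0, [m1, p0, p0, p0], 8992511), (1, 0, [p1, m1, p0, p0], 140737492872031),
    (2, 0, [p0, p1, m1, p0], 79164839776635), (3, 1, [p0, m1, p1, m1], 40681936018077),
    (3, 2, [m1, p1, p0, m1], 75453995045609), (1, 1, [p0, m1, p0, p1], 20134811771934),
    (3, 1, [p1, p0, p0, m1], 150787713030993), (2, 1, [m1, p1, m1, p1], 88278768624746),
    (2, 2, [p1, p0, m1, p1], 167205226783058), (0, 1, [m1, m1, p1, p0], 42061701588620),
    (0, 1, [m2, p1, p0, p0], 75630356534440), (1, 1, [p1, m2, p1, p0], 179290730179092),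
    (1, 1, [p2, m1, p0, p0], 150721815431440), (2, 1, [m1, p2, m1, p0], 79895327871072),
    (2, 1, [p1, p1, m1, p0], 220067885629760), (3, 1, [m1, p0, p1, m1], 41374805660288),
    (3, 2, [p1, m1, p1, m1], 181575821052416), (0, 1, [m1, p0, p0, p1], 20183419266048),
    (3, 1, [p0, p1, p0, m1], 85367274491904), (1, 0, [p1, m1, p0, p1], 160884798562304),
    (2, 0, [p0, p1, m1, p1], 97146206748672), (1, 0, [p0, m1, p1, p0], 43230914150400),
    (0, 0, [m1, p1, p0, p0], 75777710227456), (0, 1000, [p1, p0, p0, p0], 150869299429376)]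

theorem f0_ok : chkT 4 colF prmF [p1, p0, p0, p0] (8992511 <<< 24) f0 = true := by decide +kernel

theorem f0b_sec : chkSec 4 24 rlF ok0 8388608 8992511 23 4507904 75630087503872 = true := by decide +kernel

theorem f0b_clo : chkC 4 prmF [p0, p1, p0, p0] 226351764209664
    [(0, 226351764209664)]
    75630087503872 = true := by decide +kernel

/-- a weight table -/
def f0b : List WE :=
  [(3, 2, [m1, p2, p0, m2], 9913296225001), (3, 2, [p2, m1, p1, m2], 48380294336849),
    (3, 2, [p1, p1, p0, m2], 216054538177361), (2, 2, [m1, p2, m2, p2], 8867454919786),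
    (2, 2, [p2, m1, m1, p2], 11271762149714), (2, 3, [p1, p1, m2, p2], 211415956758866),
    (0, 2, [m1, m2, p2, p0], 1169229358732), (1, 4, [p2, m3, p1, p1], 54161836870164),
    (0, 4, [m3, p2, p0, p0], 147354883240), (1, 4, [p1, m3, p2, p0], 145415160769044),
    (1, 4, [p3, m2, p0, p1], 29988552206608), (2, 4, [p1, p2, m1, m1], 146795845128512),
    (2, 4, [m1, p3, m2, p1], 18625285460064), (1, 4, [p3, m1, p0, p0], 147493013776),
    (2, 4, [m2, p3, m1, p0], 13474572996704), (2, 4, [p1, p2, m2, p1], 158862535770432),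
    (3, 4, [p1, p0, p1, m2], 255638403947008), (3, 4, [m1, m1, p2, m1], 3230516908672),
    (2, 4, [p2, p1, m1, p0], 71538907169088), (3, 4, [m2, p1, p1, m1], 106970675155584),
    (3, 4, [p1, m2, p2, m1], 143439309588992), (2, 3, [p1, p0, m1, p2], 222137661104128),
    (0, 2, [m1, m1, p1, p1], 58317783245824), (3, 2, [p2, m1, p1, m1], 48458326100480),
    (0, 1, [m2, p1, p0, p1], 95314149712896), (1, 1, [p1, m2, p1, p1], 199026939830272),
    (1, 1, [p2, m1, p0, p1], 30116684275712), (2, 1, [m1, p2, m1, p1], 31549800382464),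
    (2, 1, [p1, p1, m1, p1], 230263433265152), (0, 0, [m1, p0, p1, p0], 109651132153856),
    (1, 0, [p1, m1, p1, p0], 191759624175616), (0, 1000, [p0, p1, p0, p0], 226351764209664)]

theorem f0b_ok : chkT 4 colF prmF [p0, p1, p0, p0] 226351764209664 f0b = true := by decide +kernel

theorem f02_top : chkTop 24 rlF ok0 10485760 11220991 = true := by decide +kernel

/-- a weight table -/
def f02 : List WE :=
  [(3, 4, [p2, p3, m1, m3], 85367274494209), (3, 4, [p3, m1, p2, m4], 181575821183745),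
    (0, 5, [m6, p3, p1, m1], 110814763226280), (0, 5, [m3, m3, p3, p1], 59688264148620),
    (3, 5, [p2, p1, p1, m4], 85367274494209), (2, 5, [p2, p3, m4, p3], 97146206781698),
    (2, 5, [p3, m1, m2, p4], 160884800659714), (0, 5, [m6, p3, p0, p1], 95421582611624),
    (1, 5, [p6, m3, p1, m1], 185906222123280), (1, 5, [p3, m6, p3, p1], 196885080484372),
    (2, 5, [p2, p1, m3, p4], 97146206781698), (1, 5, [p2, m5, p4, m1], 43230914185220),
    (1, 5, [p3, m5, p2, p2], 196069170653188), (1, 5, [p6, m3, p0, p1], 170513041508624),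
    (2, 5, [p3, p3, m2, m1], 220617676046656), (2, 5, [m3, p6, m3, p1], 97489678176352),
    (1, 5, [p2, m5, p3, p1], 43230914185220), (2, 5, [m3, p5, m1, m1], 75777712455712),
    (2, 5, [m2, p5, m3, p2], 97695962693664), (2, 5, [p3, p3, m3, p1], 237694448189760),
    (3, 5, [p3, m1, p2, m3], 182125644106240), (3, 5, [m3, p0, p3, m2], 43574382563968),
    (2, 5, [m3, p5, m2, p1], 75777712455712), (3, 5, [m3, p3, p1, m2], 110962083364992),
    (3, 5, [m2, m1, p3, m1], 43780671012992), (3, 6, [p3, m3, p3, m2], 183779156052480),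
    (2, 5, [p3, m1, m1, p3], 160919227506688), (0, 4, [m3, p0, p1, p2], 55368361780224),
    (3, 5, [m3, p1, p2, m1], 110962083364992), (2, 4, [m3, p3, m1, p2], 95568919528448),
    (0, 4, [m2, m1, p2, p1], 60857459934208), (3, 4, [p0, p3, p0, m2], 85405945974784),
    (1, 3, [p3, m3, p1, p2], 196073499172864), (3, 4, [p3, m2, p2, m1], 186053672568832),
    (0, 3, [m3, p1, p1, p1], 95568919528448), (1, 3, [p2, m3, p2, p1], 60825247711232),
    (2, 3, [p0, p3, m2, p2], 97700291084288), (3, 3, [p1, p2, p0, m1], 151419056422912),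
    (1, 2, [p3, m2, p1, p1], 170660508762112), (2, 2, [m1, p3, m1, p1], 93372045852672),
    (1, 1, [p0, m1, p2, p0], 43815096811520), (2, 1, [p1, p2, m1, p1], 168495847309312),
    (0, 0, [m1, p1, p1, p0], 113161642442752), (0, 1000, [p1, p0, p1, p0], 188256989741056)]

theorem f02_ok : chkT 4 colF prmF [p1, p0, p1, p0] (11220991 <<< 24) f02 = true := by decide +kernel

theorem f3t_top : chkTop 24 rlF ok0 1048576 1182119 = true := by decide +kernel

/-- a weight table -/
def f3t : List WE :=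
  [(3, 0, [p0, p0, p0, m1], 1182119), (2, 0, [p0, p0, m1, p1], 17592188175655),
    (1, 0, [p0, m2, p1, p0], 37383395380359), (2, 1, [m2, p2, m1, p0], 584117781667),
    (2, 2, [p2, p0, m1, p0], 19329616131), (0, 1, [m2, p0, p1, m1], 35738423919781),
    (0, 1, [m2, p0, p0, p1], 19829864006822), (1, 1, [p2, m2, p1, m1], 35202089912581),
    (1, 1, [p2, m2, p0, p1], 19793893689606), (2, 1, [p0, p2, m1, m1], 567006069025),
    (2, 1, [p0, p2, m2, p1], 17628762603810), (3, 1, [p0, p0, p1, m2], 35751342508161),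
    (3, 2, [p0, m2, p2, m1], 37388261787780), (2, 1, [p0, p0, m1, p2], 19827735430146),
    (3, 2, [m2, p2, p0, m1], 588512362656), (1, 1, [p0, m2, p1, p1], 54980430038020),
    (3, 1, [p2, p0, p0, m1], 19966068992), (2, 1, [m2, p2, m1, p1], 18180682548256),
    (2, 1, [p2, p0, m1, p1], 17612136284416), (0, 0, [m2, p0, p1, p0], 37971856196736),
    (1, 0, [p2, m2, p1, p0], 37403309934592), (2, 0, [p0, p2, m1, p0], 603562573824),
    (3, 0, [p0, p0, p1, m1], 35756258099200), (0, 1000, [p0, p0, p0, p1], 19832665800704)]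

theorem f3t_ok : chkT 4 colF prmF [p0, p0, p0, p1] (1182119 <<< 24) f3t = true := by decide +kernel

theorem f2t_top : chkTop 24 rlF ok0 2264195 2264487 = true := by decide +kernel

/-- a weight table -/
def f2t : List WE :=
  [(1, 2, [p2, m4, p2, p1], 54982611077124), (2, 2, [m2, p4, m1, m1], 605711106080),
    (2, 3, [p2, p2, m1, m1], 569740755200), (2, 3, [m2, p4, m2, p1], 18182863716384),
    (3, 3, [m2, p2, p1, m2], 35790081097856), (2, 3, [p2, p2, m2, p1], 17646529675520),
    (3, 3, [p2, p0, p1, m2], 35754110748672), (3, 3, [m2, p0, p2, m1], 37972461224064),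
    (2, 2, [m2, p2, m1, p2], 20381886841856), (3, 2, [p2, m2, p2, m1], 37407673026560),
    (2, 1, [p2, p0, m1, p2], 19845552832512), (0, 0, [m2, p0, p1, p1], 55564646220800),
    (1, 0, [p2, m2, p1, p1], 54999858053120), (2, 0, [p0, p2, m1, p1], 18200580325376),
    (0, 1000, [p0, p0, p1, p0], 37991787528192)]

theorem f2t_ok : chkT 4 colF prmF [p0, p0, p1, p0] (2264487 <<< 24) f2t = true := by decide +kernel

theorem f1_en0 : enum (fun I n => n.beq 0 || (2 * n).blt (cnt I f1)) eF0 0 0 0 = true := by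
  decide +kernel

theorem f1_en1 : enum (fun I n => n.beq 0 || (2 * n).blt (cnt I f1)) eF1 0 0 0 = true := by
  decide +kernel

theorem f03_en0 : enum (fun I n => n.beq 0 || (2 * n).blt (cnt I f03)) eF0 0 0 0 = true := by
  decide +kernel

theorem f03_en1 : enum (fun I n => n.beq 0 || (2 * n).blt (cnt I f03)) eF1 0 0 0 = true := by
  decide +kernel

theorem f2_en1 : enum (fun I n => n.beq 0 || (2 * n).blt (cnt I f2)) eF1 0 0 0 = true := by
  decide +kernel

theorem f3_en1 : enum (fun I n => n.beq 0 || (2 * n).blt (cnt I f3 + cnt I f3b)) eF1 0 0 0 = true := by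
  decide +kernel

theorem f0b_en1 : enum (fun I n => n.beq 0 || (2 * n).blt (cnt I f0b)) eF1 0 0 0 = true := by
  decide +kernel

theorem f0_en1 : enum (fun I n => n.beq 0 || (1 * n).blt (cnt I f0)) eF1 0 0 0 = true := by
  decide +kernel

theorem f0_en0 : enum (fun I n => n.beq 0 || (1 * n).blt (cnt I f0)) eF0 0 0 0 = true := by
  decide +kernel

theorem f0_sh : enum (fun I n => n.beq 0 || !sub I 13464152 || (2 * n).blt (cnt I f0)) eF0 0 0 0 = true := by
  decide +kernel

theorem f02_en0 : enum (fun I n => n.beq 0 || (2 * n).blt (cnt I f02)) eF0 0 0 0 = true := by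
  decide +kernel

theorem f03p_en0 : enum (fun I n => n.beq 0 || (2 * n).blt (cnt I f0 + cnt I f3t)) eF0 0 0 0 = true := by
  decide +kernel

theorem f02p_en0 : enum (fun I n => n.beq 0 || (2 * n).blt (cnt I f0 + cnt I f2t)) eF0 0 0 0 = true := by
  decide +kernel

theorem f_max : enum (fun I n => sub I 383 || sub I 1279) eF1 0 0 0 = true := by decide +kernel

theorem f_card : enum (fun I n => n.ble 11) eF0 0 0 0 = true := by decide +kernel

end Cfsg.Agent.TwoF.DC.TF
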