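import Cfsg.Agent.TwoF.DC.TFG.TabF

/-!
# TwoF, defining characteristic, type F4: tables with margin three, `p = 2` (helper25, generated)
-/

set_option autoImplicit false
set_option synthInstance.maxSize 4000
set_option linter.unusedVariables false

namespace Cfsg.Agent.TwoF.DC.TF

open Cfsg.Lie TE

/-- a weight table -/
def f1m : List WE :=
  [(3, 3, [m2, p1, p1, m2], 111742476243625), (3, 3, [p2, p1, m1, m1], 221158808377681),
    (3, 4, [m1, p2, p0, m2], 85367148663521), (3, 5, [p2, m1, p1, m2], 190370840468241),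
    (2, 5, [m2, p1, m1, p2], 90551092061226), (2, 5, [p2, p1, m2, p1], 237591352295762),
    (3, 5, [p1, p1, p0, m2], 226104494414657), (2, 5, [m1, p2, m2, p2], 97146080928866),
    (0, 6, [m3, p1, p1, m1], 110953275856552), (2, 6, [p2, m1, m1, p2], 169679820005650),
    (0, 5, [m2, m1, p1, p1], 59757252125836), (1, 5, [p2, m3, p2, m1], 183706125388308),
    (2, 5, [p1, p1, m2, p2], 237883426709826), (0, 4, [m1, m2, p2, p0], 43230788331140),
    (0, 4, [m3, p1, p0, p1], 95431246292136), (1, 4, [p3, m2, p1, m1], 186044734556944),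
    (1, 4, [p2, m3, p1, p1], 197160092870676), (2, 4, [m1, p3, m1, m1], 84310723022944),
    (1, 4, [p1, m3, p2, p0], 183968134113796), (1, 4, [p3, m2, p0, p1], 170522705176848),
    (2, 4, [p1, p2, m1, m1], 221717455851840), (2, 4, [m1, p3, m2, p1], 97764690559072),
    (3, 4, [m1, p1, p1, m2], 111760930656896), (2, 4, [m2, p3, m1, p0], 84572731805728),
    (2, 4, [p1, p2, m2, p1], 237763436151104), (3, 4, [p1, p0, p1, m2], 190922001373696),
    (3, 4, [m1, m1, p2, m1], 43849398878848), (2, 3, [m1, p1, m1, p2], 90554514088960),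
    (3, 3, [m2, p1, p1, m1], 112053005586560), (3, 3, [p1, m2, p2, m1], 183848144472576),
    (2, 2, [p1, p0, m1, p2], 169715584835584), (0, 1, [m1, m1, p1, p1], 59766546637824),
    (0, 1, [m2, p1, p0, p1], 95500200641536), (1, 1, [p1, m2, p1, p1], 197173279498240),
    (1, 1, [p2, m1, p0, p1], 170797952172032), (2, 1, [m1, p2, m1, p1], 97838811906048),
    (2, 1, [p1, p1, m1, p1], 238039958028288), (0, 0, [m1, p0, p1, p0], 43961129893888),
    (1, 0, [p1, m1, p1, p0], 184133825331200), (0, 1000, [p0, p1, p0, p0], 85761890189312)]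

theorem f1m_ok : chkT 4 colF prmF [p0, p1, p0, p0] (5111807 <<< 24) f1m = true := by decide +kernel

theorem f1m_en : enum (fun I n => n.beq 0 || (2 * n).blt (cnt I f1m - 2)) eF0 0 0 0 = true := by
  decide +kernel

/-- a weight table -/
def f03m : List WE :=
  [(3, 5, [m1, p0, p2, m3], 41391985662593), (1, 5, [m1, m3, p2, p1], 59654441313932),
    (3, 5, [p3, p0, p0, m2], 150790498048849), (2, 5, [m3, p3, m2, p2], 88832903292010),
    (2, 5, [p0, p3, m1, m2], 85367276589345), (3, 5, [p1, m1, p2, m3], 182125576997505),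
    (2, 5, [m1, p0, m1, p3], 20185568879618), (2, 5, [m4, p3, m1, p1], 93222628562088),
    (2, 5, [p3, p0, m2, p2], 167223027409234), (0, 4, [m3, m1, p2, p0], 42645867472524),
    (3, 4, [p0, p1, p1, m3], 120551646582913), (2, 4, [p1, m1, m1, p3], 160919160398850),
    (1, 4, [m1, m2, p1, p2], 55368328258564), (0, 4, [m4, p1, p1, p0], 113013802210472),
    (1, 4, [p3, m4, p2, p0], 179310107863572), (2, 4, [p0, p1, m2, p3], 99345230038018),
    (1, 4, [p1, m3, p1, p2], 196073465619460), (2, 4, [m3, p2, m1, p2], 20733244285984),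
    (1, 4, [p4, m3, p1, p0], 188105261107472), (2, 4, [m1, p4, m2, p0], 79914705555552),
    (1, 4, [p0, m3, p2, p1], 60823100228612), (2, 4, [m2, p3, m2, p2], 97700257530912),
    (0, 4, [m3, p0, p1, p1], 55917580723328), (2, 4, [p1, p3, m2, p0], 220652051513664),
    (3, 4, [m1, p0, p2, m2], 41392606286464), (2, 4, [m3, p3, m1, p1], 93369898370080),
    (0, 4, [m2, m1, p2, p0], 43815029703808), (1, 4, [p3, m3, p1, p1], 196086384076800),
    (3, 5, [p1, m1, p2, m2], 182129955719680), (0, 4, [m1, p0, p0, p2], 20186204283904),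
    (0, 4, [m3, p1, p1, p0], 113161105572992), (1, 4, [p2, m3, p2, p0], 43250241538048),
    (2, 4, [p0, p3, m2, p1], 97713176117248), (3, 4, [p0, p1, p1, m2], 120556495196160),
    (1, 3, [p1, m1, p0, p2], 160923553931264), (1, 3, [p3, m2, p1, p0], 188252694808576),
    (2, 3, [m1, p3, m1, p0], 75797039808512), (3, 3, [p0, m1, p2, m1], 43797917990912),
    (2, 2, [p0, p1, m1, p2], 99350095396864), (2, 2, [p1, p2, m1, p0], 151453417209856),
    (3, 2, [m1, p1, p1, m1], 110979800104960), (1, 1, [p0, m1, p1, p1], 60859674525696),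
    (3, 1, [p1, p0, p1, m1], 186607723347968), (0, 0, [m1, p1, p0, p1], 95571603881984),
    (0, 1000, [p1, p0, p0, p1], 170699163435008)]

theorem f03m_ok : chkT 4 colF prmF [p1, p0, p0, p1] (10174463 <<< 24) f03m = true := by decide +kernel

theorem f03m_en : enum (fun I n => n.beq 0 || (2 * n).blt (cnt I f03m - 2)) eF0 0 0 0 = true := by
  decide +kernel

/-- a weight table -/
def f02m : List WE :=
  [(3, 6, [p3, p0, p1, m4], 185972655545169), (2, 6, [m3, p3, m3, p4], 90482103624810),
    (0, 6, [m3, m3, p4, m1], 42611492005516), (3, 7, [m2, p3, p1, m4], 85367274492065),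
    (3, 7, [p2, p3, m1, m3], 85367274494209), (3, 7, [p3, m1, p2, m4], 181575821183745),
    (0, 8, [m6, p3, p1, m1], 110814763226280), (2, 8, [p3, p0, m3, p4], 169404803686738),
    (0, 7, [m3, m3, p3, p1], 59688264148620), (1, 7, [p3, m6, p4, m1], 179307944651284),
    (3, 7, [p2, p1, p1, m4], 85367274494209), (2, 7, [m2, p3, m3, p4], 97146206749730),
    (2, 7, [p2, p3, m4, p3], 97146206781698), (2, 7, [p3, m1, m2, p4], 160884800659714),
    (0, 7, [m6, p3, p0, p1], 95421582611624), (1, 7, [p6, m3, p1, m1], 185906222123280),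
    (1, 7, [p3, m6, p3, p1], 196885080484372), (2, 7, [m3, p6, m2, m1], 79912542343264),
    (2, 7, [p2, p1, m3, p4], 97146206781698), (0, 6, [m2, m3, p3, p1], 43230914151556),
    (1, 6, [p2, m5, p4, m1], 43230914185220), (1, 6, [p3, m5, p2, p2], 196069170653188),
    (1, 6, [p6, m3, p0, p1], 170513041508624), (2, 6, [p3, p3, m2, m1], 220617676046656),
    (2, 6, [m3, p6, m3, p1], 97489678176352), (3, 6, [m3, p2, p2, m3], 41392052769408),
    (1, 6, [p2, m5, p3, p1], 43230914185220), (2, 6, [m3, p5, m1, m1], 75777712455712),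
    (2, 6, [m2, p5, m3, p2], 97695962693664), (2, 6, [p3, p3, m3, p1], 237694448189760),
    (3, 6, [p3, m1, p2, m3], 182125644106240), (3, 6, [m3, p0, p3, m2], 43574382563968),
    (2, 5, [m3, p2, m1, p3], 20185635955712), (2, 5, [m3, p5, m2, p1], 75777712455712),
    (3, 5, [m3, p3, p1, m2], 110962083364992), (3, 5, [m2, m1, p3, m1], 43780671012992),
    (3, 5, [p3, m3, p3, m2], 183779156052480), (2, 4, [p3, m1, m1, p3], 160919227506688),
    (0, 3, [m3, p0, p1, p2], 55368361780224), (3, 3, [m3, p1, p2, m1], 110962083364992),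
    (2, 2, [m3, p3, m1, p2], 95568919528448), (0, 2, [m2, m1, p2, p1], 60857459934208),
    (1, 2, [p3, m3, p1, p2], 196073499172864), (0, 2, [m3, p1, p1, p1], 95568919528448),
    (1, 2, [p2, m3, p2, p1], 60825247711232), (2, 2, [p0, p3, m2, p2], 97700291084288),
    (1, 2, [p3, m2, p1, p1], 170660508762112), (2, 2, [m1, p3, m1, p1], 93372045852672),
    (1, 1, [p0, m1, p2, p0], 43815096811520), (2, 1, [p1, p2, m1, p1], 168495847309312),
    (0, 0, [m1, p1, p1, p0], 113161642442752), (0, 1000, [p1, p0, p1, p0], 188256989741056)]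

theorem f02m_ok : chkT 4 colF prmF [p1, p0, p1, p0] (11220991 <<< 24) f02m = true := by decide +kernel

theorem f02m_en : enum (fun I n => n.beq 0 || (2 * n).blt (cnt I f02m - 2)) eF0 0 0 0 = true := by
  decide +kernel

/-- a weight table -/
def f2tm : List WE :=
  [(2, 1, [p2, p0, m2, p3], 19828339409154), (1, 1, [p2, m4, p3, m1], 37405458466820),
    (1, 2, [p2, m4, p2, p1], 54982611077124), (2, 2, [m2, p4, m1, m1], 605711106080),
    (2, 3, [p2, p2, m1, m1], 569740755200), (2, 3, [m2, p4, m2, p1], 18182863716384),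
    (3, 3, [m2, p2, p1, m2], 35790081097856), (2, 3, [p2, p2, m2, p1], 17646529675520),
    (3, 3, [p2, p0, p1, m2], 35754110748672), (3, 3, [m2, p0, p2, m1], 37972461224064),
    (2, 2, [m2, p2, m1, p2], 20381886841856), (3, 2, [p2, m2, p2, m1], 37407673026560),
    (2, 1, [p2, p0, m1, p2], 19845552832512), (0, 0, [m2, p0, p1, p1], 55564646220800),
    (1, 0, [p2, m2, p1, p1], 54999858053120), (2, 0, [p0, p2, m1, p1], 18200580325376),
    (0, 1000, [p0, p0, p1, p0], 37991787528192)]

theorem f2tm_ok : chkT 4 colF prmF [p0, p0, p1, p0] (2264487 <<< 24) f2tm = true := by decide +kernel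

theorem f2tm_en : enum (fun I n => n.beq 0 || (2 * n).blt (cnt I f0 + cnt I f2tm - 2)) eF0 0 0 0 = true := by
  decide +kernel

theorem f3tm_en : enum (fun I n => n.beq 0 || (2 * n).blt (cnt I f0 + cnt I f3t - 2)) eF0 0 0 0 = true := by
  decide +kernel

end Cfsg.Agent.TwoF.DC.TF
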